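import Mathlib
import Cfsg.Agent.Lib.Thompson.Elementary
import Cfsg.Agent.Lib.Components.Cores
import Cfsg.Agent.Lib.HallHigman.Solvable
import Cfsg.Agent.Lib.Char.Burnside
import Cfsg.Agent.Lib.Offender.Group

/-! `q`-elements acting nontrivially on characteristic subgroups of a Sylow `p`-subgroup of a
`{p, q}`-group. -/

set_option autoImplicit false

namespace Cfsg.Agent.Lib.Automizer

open Subgroup
open scoped MatrixGroups

universe u

/-- The order of `g` is a power of `q`. -/
def IsQ {G : Type*} [Group G] (q : ℕ) (g : G) : Prop := ∃ a : ℕ, g ^ (q ^ a) = 1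

variable {p q : ℕ}

theorem exists_qpart [Fact q.Prime] {G H : Type*} [Group G] [Finite G] [Group H] (f : G →* H) (g : G)
    (h : IsQ q (f g)) : ∃ m : ℕ, IsQ q (g ^ m) ∧ f (g ^ m) = f g := by
  obtain ⟨a, ha⟩ := h
  obtain ⟨e, r, hr, her⟩ :=
    Nat.exists_eq_pow_mul_and_not_dvd (orderOf_pos g).ne' q (Fact.out : q.Prime).ne_one
  have hco : (q ^ a).Coprime r := (((Fact.out : q.Prime).coprime_iff_not_dvd).2 hr).pow_left a
  obtain ⟨m, hm1, hm2⟩ := Nat.chineseRemainder hco 1 0
  refine ⟨m, ⟨e, ?_⟩, ?_⟩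
  · rw [← pow_mul, ← orderOf_dvd_iff_pow_eq_one, her, mul_comm (q ^ e)]
    exact Nat.mul_dvd_mul_right (Nat.modEq_zero_iff_dvd.1 hm2) _
  · have h1 : m ≡ 1 [MOD orderOf (f g)] :=
      Nat.ModEq.of_dvd (orderOf_dvd_iff_pow_eq_one.2 ha) hm1
    rw [map_pow]
    conv_rhs => rw [← pow_one (f g)]
    exact pow_eq_pow_iff_modEq.2 h1

theorem dvd_of_isQ [hq : Fact q.Prime] {G : Type*} [Group G] [Finite G] {g : G} (hg : IsQ q g)
    (h1 : g ≠ 1) : q ∣ Nat.card G := by
  obtain ⟨a, ha⟩ := hg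
  obtain ⟨b, -, hb⟩ := (Nat.dvd_prime_pow hq.out).1 (orderOf_dvd_iff_pow_eq_one.2 ha)
  rcases b with _ | b
  · exact absurd (orderOf_eq_one_iff.1 (by rw [hb, pow_zero])) h1
  · exact ((dvd_pow_self q b.succ_ne_zero).trans (hb ▸ dvd_rfl)).trans (orderOf_dvd_natCard g)

/-- A `{p, q}`-group with an element of order `q` that is trivial is a `p`-group. -/
theorem isPGroup_of_pq [hp : Fact p.Prime] [hq : Fact q.Prime] {G : Type*} [Group G] [Finite G]
    (hpr : ∀ r : ℕ, r.Prime → r ∣ Nat.card G → r = p ∨ r = q) (h : ¬ q ∣ Nat.card G) : IsPGroup p G :=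
  IsPGroup.of_card (n := (Nat.card G).primeFactorsList.length)
    (Nat.eq_prime_pow_of_unique_prime_dvd Nat.card_pos.ne' fun {r} hr hd =>
      (hpr r hr hd).resolve_right fun e => h (e ▸ hd))

theorem characteristic_comap {A B : Type*} [Group A] [Group B] (φ : A →* B)
    (hφ : Function.Surjective φ) (hker : φ.ker.Characteristic) (K : Subgroup B)
    [hK : K.Characteristic] : (K.comap φ).Characteristic := by
  refine characteristic_iff_le_comap.2 fun α => ?_
  have hk : ∀ x, φ x = 1 → φ (α x) = 1 := fun x hx =>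
    (characteristic_iff_le_comap.1 hker α) (MonoidHom.mem_ker.2 hx)
  have hk' : ∀ x, φ x = 1 → φ (α.symm x) = 1 := fun x hx =>
    (characteristic_iff_le_comap.1 hker α.symm) (MonoidHom.mem_ker.2 hx)
  let β : B →* B := φ.liftOfSurjective hφ ⟨φ.comp α.toMonoidHom, fun x hx => hk x hx⟩
  have hβ : ∀ x, β (φ x) = φ (α x) := fun x => MonoidHom.liftOfRightInverse_comp_apply _ _ _ _ x
  have hb : Function.Bijective β := by
    refine ⟨(injective_iff_map_eq_one β).2 fun b hb => ?_, fun b => ?_⟩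
    · obtain ⟨x, rfl⟩ := hφ b
      rw [hβ] at hb
      simpa using hk' _ hb
    · obtain ⟨x, rfl⟩ := hφ b
      exact ⟨φ (α.symm x), by rw [hβ, α.apply_symm_apply]⟩
  intro x hx
  have h1 := characteristic_iff_le_comap.1 hK (MulEquiv.ofBijective β hb) hx
  simpa [hβ] using h1

theorem sl_two_dvd_three : 3 ∣ Nat.card SL(2, ZMod 2) := by
  let M : SL(2, ZMod 2) := ⟨!![0, 1; 1, 1], by decide⟩
  haveI : Fact (Nat.Prime 3) := ⟨Nat.prime_three⟩
  have e : M ^ 3 = 1 := Subtype.ext (by decide)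
  have hne : M ≠ 1 := fun h => absurd (congrArg (fun N : SL(2, ZMod 2) => N.1 0 0) h) (by decide)
  exact (orderOf_eq_prime e hne) ▸ orderOf_dvd_natCard M

theorem normalizer_le_normalizer_char {G : Type*} [Group G] (X : Subgroup G) (K : Subgroup X)
    [hK : K.Characteristic] :
    normalizer (X : Set G) ≤ normalizer ((K.map X.subtype : Subgroup G) : Set G) := by
  intro g hg
  have key : ∀ g ∈ normalizer (X : Set G), ∀ y ∈ K.map X.subtype, g * y * g⁻¹ ∈ K.map X.subtype := by
    rintro g hg _ ⟨x, hx, rfl⟩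
    refine ⟨X.normalizerMonoidHom ⟨g, hg⟩ x, ?_, rfl⟩
    exact (SetLike.ext_iff.mp (hK.fixed (X.normalizerMonoidHom ⟨g, hg⟩)) x).mpr hx
  rw [mem_normalizer_iff]
  exact fun y => ⟨key g hg y, fun h => by simpa [mul_assoc] using key g⁻¹ (inv_mem hg) _ h⟩

theorem sl_two_dvd_two : 2 ∣ Nat.card SL(2, ZMod 3) := by
  have e : (-1 : SL(2, ZMod 3)) ^ 2 = 1 := by decide
  have hne : (-1 : SL(2, ZMod 3)) ≠ 1 := by decide
  have h := orderOf_dvd_natCard (-1 : SL(2, ZMod 3))
  rwa [orderOf_eq_prime e hne] at h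

theorem thompson_factorizable [hp : Fact p.Prime] [hq : Fact q.Prime] {Y : Type u} [Group Y] [Finite Y]
    (h23 : ¬ ((p = 2 ∧ q = 3) ∨ (p = 3 ∧ q = 2)))
    (hpr : ∀ r : ℕ, r.Prime → r ∣ Nat.card Y → r = p ∨ r = q)
    (hO : Cfsg.pPrimeCore p Y = ⊥) : Cfsg.IsThompsonFactorizable p Y := by
  haveI : Group.IsSolvable Y := Lib.Char.isSolvable_of_card_eq_two_primes hp.out hq.out _ Y rfl hpr
  by_contra hnf
  obtain ⟨hp23, E, -, -, -, hn, ⟨e⟩⟩ :=
    Offender.not_factorizable_structure (HallHigman.isPSolvable_of_isSolvable p) hO hnf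
  set C := (centralizer ((Offender.omegaSup p Y : Subgroup Y) : Set Y)).subgroupOf E with hC
  have hdvd : ∀ r, r ∣ Nat.card SL(2, ZMod p) → r ∣ Nat.card Y := fun r hr => by
    have h1 : Nat.card (↥E ⧸ C) ∣ Nat.card ↥E := C.index_eq_card ▸ C.index_dvd_card
    rw [Nat.card_congr e.toEquiv] at h1
    exact hr.trans (h1.trans (Subgroup.card_subgroup_dvd_card E))
  rcases hp23 with rfl | rfl
  · rcases hpr 3 Nat.prime_three (hdvd 3 sl_two_dvd_three) with h | h
    · omega
    · exact h23 (Or.inl ⟨rfl, h.symm⟩)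
  · rcases hpr 2 Nat.prime_two (hdvd 2 sl_two_dvd_two) with h | h
    · omega
    · exact h23 (Or.inr ⟨rfl, h.symm⟩)

/-- The key lemma. -/
theorem exists_char_moved [hp : Fact p.Prime] [hq : Fact q.Prime] (hpq : p ≠ q)
    (h23 : ¬ ((p = 2 ∧ q = 3) ∨ (p = 3 ∧ q = 2))) :
    ∀ (n : ℕ) (Y : Type u) [Group Y] [Finite Y], Nat.card Y = n →
      (∀ r : ℕ, r.Prime → r ∣ Nat.card Y → r = p ∨ r = q) →
      centralizer (Cfsg.pCore p Y : Set Y) ≤ Cfsg.pCore p Y → q ∣ Nat.card Y →
      ∀ S : Sylow p Y, ∃ K : Subgroup ↥(S : Subgroup Y), K.Characteristic ∧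
        ∃ x : Y, IsQ q x ∧ x ∈ normalizer (K.map (S : Subgroup Y).subtype : Set Y) ∧
          x ∉ centralizer (K.map (S : Subgroup Y).subtype : Set Y) := by
  intro n
  induction n using Nat.strong_induction_on with
  | _ n ih =>
    intro Y _ _ hn hpr hcon hqY S
    set R := Cfsg.pCore p Y with hR
    have hRp : IsPGroup p ↥R := Components.pCore_isPGroup p
    haveI hRn : R.Normal := Cfsg.pCore_normal p Y
    have hRS : R ≤ (S : Subgroup Y) := hRp.le_sylow_of_normal S
    have hqelt : ∀ D : Subgroup Y, q ∣ Nat.card ↥D → ∃ x ∈ D, IsQ q x ∧ x ≠ 1 := fun D hD => by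
      obtain ⟨x, hx⟩ := exists_prime_orderOf_dvd_card' q hD
      refine ⟨x, x.2, ⟨1, ?_⟩, fun e => ?_⟩
      · rw [pow_one, ← orderOf_coe] at *
        rw [← hx]; exact pow_orderOf_eq_one _
      · rw [← orderOf_coe, e, orderOf_one] at hx
        exact hq.out.one_lt.ne hx
    have hnq : ∀ D : Subgroup Y, IsPGroup p ↥D → ∀ x ∈ D, IsQ q x → x = 1 := fun D hD x hx hxq => by
      by_contra hne
      obtain ⟨a, ha⟩ := hxq
      obtain ⟨b, hb⟩ := (IsPGroup.iff_card.1 hD)
      have h1 : q ∣ Nat.card ↥D :=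
        dvd_of_isQ (g := (⟨x, hx⟩ : ↥D)) ⟨a, Subtype.ext (by simpa using ha)⟩
          (fun e => hne (congrArg Subtype.val e))
      exact hpq ((Nat.prime_dvd_prime_iff_eq hq.out hp.out).1 (hq.out.dvd_of_dvd_pow (hb ▸ h1))).symm
    have hO : Cfsg.pPrimeCore p Y = ⊥ := by
      set O := Cfsg.pPrimeCore p Y
      have hcop : (Nat.card ↥O).Coprime p := Components.pPrimeCore_coprime p
      haveI : O.Normal := inferInstance
      have hdis : R ⊓ O = ⊥ := Components.inf_eq_bot_of_pGroup_coprime hRp hcop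
      rw [eq_bot_iff]
      intro x hx
      have hxC : x ∈ centralizer (R : Set Y) := mem_centralizer_iff.2 fun r hr =>
        (commute_of_normal_of_disjoint R O hRn inferInstance (disjoint_iff.2 hdis) r x hr hx).eq
      exact hdis ▸ (mem_inf.2 ⟨hcon hxC, hx⟩)
    -- the subgroup generated by the central elements of order dividing p
    set Z0 : Subgroup ↥(S : Subgroup Y) :=
      closure {x | x ∈ center ↥(S : Subgroup Y) ∧ x ^ p = 1} with hZ0def
    haveI hZ0 : Z0.Characteristic := characteristic_iff_le_comap.2 fun α => by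
      refine (closure_le _).2 fun x hx => ?_
      refine subset_closure ⟨?_, by rw [← map_pow]; simp [hx.2]⟩
      rw [mem_center_iff]
      intro y
      obtain ⟨y, rfl⟩ := α.surjective y
      change α y * α x = α x * α y
      rw [← map_mul, ← map_mul, mem_center_iff.1 hx.1 y]
    set Z := Z0.map (S : Subgroup Y).subtype with hZdef
    have hZS : Z ≤ (S : Subgroup Y) := map_subtype_le _
    have hZcS : ∀ z ∈ Z, ∀ s ∈ (S : Subgroup Y), s * z = z * s := by
      rintro _ ⟨z, hz, rfl⟩ s hs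
      have h1 : Z0 ≤ center ↥(S : Subgroup Y) := (closure_le _).2 fun w hw => hw.1
      exact congrArg Subtype.val (mem_center_iff.1 (h1 hz) ⟨s, hs⟩)
    have hZΩ : Z ≤ Cfsg.omegaOne p ((S : Subgroup Y) ⊓ centralizer ((S : Subgroup Y) : Set Y)) := by
      rw [hZdef, hZ0def, MonoidHom.map_closure, closure_le]
      rintro _ ⟨w, ⟨hw, hwp⟩, rfl⟩
      refine subset_closure ⟨mem_inf.2 ⟨w.2, mem_centralizer_iff.2 fun s hs => ?_⟩, ?_⟩
      · exact congrArg Subtype.val (mem_center_iff.1 hw ⟨s, hs⟩)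
      · simpa using congrArg Subtype.val hwp
    set Y1 := centralizer (Z : Set Y) with hY1
    have hSY1 : (S : Subgroup Y) ≤ Y1 := fun s hs =>
      mem_centralizer_iff.2 fun z hz => (hZcS z hz s hs).symm
    by_cases hqY1 : q ∣ Nat.card ↥Y1
    · -- pass to the centralizer of `Z`, modulo `Z`
      set Z1 := Z.subgroupOf Y1 with hZ1
      have hZY1 : Z ≤ Y1 := hZS.trans hSY1
      haveI : Z1.Normal := ⟨fun z hz g => by
        rw [hZ1, mem_subgroupOf] at hz ⊢
        have h1 : (z : Y) * g = g * z := mem_centralizer_iff.1 g.2 _ hz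
        simpa [← h1] using hz⟩
      set π := QuotientGroup.mk' Z1 with hπ
      have hZp : IsPGroup p ↥Z := S.2.to_le hZS
      have hZ1card : Nat.card ↥Z1 = Nat.card ↥Z := Nat.card_congr (subgroupOfEquivOfLe hZY1).toEquiv
      have hcardQ : Nat.card (↥Y1 ⧸ Z1) * Nat.card ↥Z = Nat.card ↥Y1 := by
        rw [← hZ1card, ← Subgroup.index_eq_card, mul_comm]; exact Z1.card_mul_index
      have hQdvd : Nat.card (↥Y1 ⧸ Z1) ∣ Nat.card Y :=
        (Dvd.intro _ hcardQ).trans (card_subgroup_dvd_card Y1)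
      have hprQ : ∀ r : ℕ, r.Prime → r ∣ Nat.card (↥Y1 ⧸ Z1) → r = p ∨ r = q := fun r hr hd =>
        hpr r hr (hd.trans hQdvd)
      obtain ⟨b, hb⟩ := IsPGroup.iff_card.1 hZp
      have hqQ : q ∣ Nat.card (↥Y1 ⧸ Z1) := by
        rw [← hcardQ, hb] at hqY1
        exact (Nat.Coprime.dvd_of_dvd_mul_right
          (((Nat.coprime_primes hq.out hp.out).2 (Ne.symm hpq)).pow_right b) hqY1)
      -- Z is nontrivial
      have hZne : 1 < Nat.card ↥Z := by
        have hSne : Nontrivial ↥(S : Subgroup Y) := by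
          rw [nontrivial_iff_ne_bot]
          intro e
          have h1 : R = ⊥ := le_bot_iff.1 (e ▸ hRS)
          obtain ⟨x, -, hxq, hx1⟩ := hqelt ⊤ (by rwa [card_top])
          exact hx1 (mem_bot.1 (h1 ▸ hcon (by rw [h1, mem_centralizer_iff]; simp)))
        obtain ⟨z, hz⟩ : ∃ z : center ↥(S : Subgroup Y), orderOf z = p := by
          refine exists_prime_orderOf_dvd_card' p ?_
          haveI := S.2.center_nontrivial
          obtain ⟨c, hc0, hc⟩ := (S.2.to_subgroup (center ↥(S : Subgroup Y))).nontrivial_iff_card.1 inferInstance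
          rw [hc]; exact dvd_pow_self p hc0.ne'
        have hzZ : ((z : ↥(S : Subgroup Y)) : Y) ∈ Z := by
          refine mem_map_of_mem _ (subset_closure ⟨z.2, ?_⟩)
          have := pow_orderOf_eq_one z
          rw [hz] at this
          exact_mod_cast congrArg Subtype.val this
        rw [Subgroup.one_lt_card_iff_ne_bot]
        intro e
        rw [e, mem_bot] at hzZ
        rw [← orderOf_coe, ← orderOf_coe, hzZ, orderOf_one] at hz
        exact hp.out.one_lt.ne hz
      have hlt : Nat.card (↥Y1 ⧸ Z1) < n := by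
        have h1 := Nat.le_of_dvd Nat.card_pos (card_subgroup_dvd_card Y1)
        have h2 : 0 < Nat.card (↥Y1 ⧸ Z1) := Nat.card_pos
        rw [← hn]
        nlinarith [hcardQ]
      have hRY1 : R ≤ Y1 := hRS.trans hSY1
      have hconQ : centralizer (Cfsg.pCore p (↥Y1 ⧸ Z1) : Set (↥Y1 ⧸ Z1)) ≤
          Cfsg.pCore p (↥Y1 ⧸ Z1) := by
        set D := centralizer (Cfsg.pCore p (↥Y1 ⧸ Z1) : Set (↥Y1 ⧸ Z1)) with hD
        haveI : (Cfsg.pCore p (↥Y1 ⧸ Z1)).Normal := Cfsg.pCore_normal p _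
        haveI : D.Normal := inferInstance
        have hRimg : (R.subgroupOf Y1).map π ≤ Cfsg.pCore p (↥Y1 ⧸ Z1) := by
          haveI : ((R.subgroupOf Y1).map π).Normal :=
            Normal.map inferInstance π (QuotientGroup.mk'_surjective Z1)
          exact Components.le_pCore
            ((hRp.of_equiv (subgroupOfEquivOfLe hRY1).symm).map π)
        refine Components.le_pCore (isPGroup_of_pq (q := q)
          (fun r hr hd => hprQ r hr (hd.trans (card_subgroup_dvd_card D))) fun hqD => ?_)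
        obtain ⟨d, hd⟩ := exists_prime_orderOf_dvd_card' q hqD
        obtain ⟨g, hg⟩ := QuotientGroup.mk'_surjective Z1 (d : ↥Y1 ⧸ Z1)
        have hdq : (d : ↥Y1 ⧸ Z1) ^ q = 1 := by
          rw [← hd, ← orderOf_coe]; exact pow_orderOf_eq_one _
        obtain ⟨m, hmq, hm⟩ := exists_qpart (q := q) π g ⟨1, by rw [hπ, hg, pow_one, hdq]⟩
        set x := ((g ^ m : ↥Y1) : Y) with hx
        obtain ⟨a, ha⟩ := hmq
        have hxq : x ^ (q ^ a) = 1 := by rw [hx, ← SubmonoidClass.coe_pow, ha]; rfl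
        have hxC : x ∈ centralizer (R : Set Y) := by
          rw [mem_centralizer_iff]
          intro r hr
          set r1 : ↥Y1 := ⟨r, hRY1 hr⟩
          have h1 := mem_centralizer_iff.1 d.2 (π r1) (hRimg (mem_map_of_mem π hr))
          rw [← hg, ← hm, ← map_mul, ← map_mul] at h1
          obtain ⟨z, hz, hzeq⟩ : ∃ z ∈ Z, x * r * x⁻¹ = z * r := by
            have h2 : (r1 * g ^ m)⁻¹ * (g ^ m * r1) ∈ Z1 := QuotientGroup.eq.1 h1
            haveI : Z1.Normal := inferInstance
            have h3 := ‹Z1.Normal›.conj_mem _ h2 (r1 * g ^ m)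
            rw [show r1 * g ^ m * ((r1 * g ^ m)⁻¹ * (g ^ m * r1)) * (r1 * g ^ m)⁻¹ =
              g ^ m * r1 * (g ^ m)⁻¹ * r1⁻¹ by group, hZ1, mem_subgroupOf] at h3
            refine ⟨x * r * x⁻¹ * r⁻¹, ?_, by group⟩
            simpa [hx, r1] using h3
          have hxz : x * z = z * x := (mem_centralizer_iff.1 (g ^ m).2 z hz).symm
          have hit : ∀ k : ℕ, x ^ k * r * (x ^ k)⁻¹ = z ^ k * r := by
            intro k
            induction k with
            | zero => simp
            | succ k ihk =>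
              have hc : x * z ^ k = z ^ k * x := (Commute.pow_right hxz k).eq
              calc x ^ (k + 1) * r * (x ^ (k + 1))⁻¹ = x * (x ^ k * r * (x ^ k)⁻¹) * x⁻¹ := by
                    rw [pow_succ']; group
                _ = z ^ k * (x * r * x⁻¹) := by rw [ihk, ← mul_assoc, hc]; group
                _ = z ^ (k + 1) * r := by rw [hzeq, pow_succ]; group
          have h4 := hit (q ^ a)
          rw [hxq, one_mul, inv_one, mul_one] at h4
          have hz1 : z = 1 :=
            hnq Z hZp z hz ⟨a, mul_right_cancel (h4.symm.trans (one_mul r).symm)⟩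
          rw [hz1, one_mul, mul_inv_eq_iff_eq_mul] at hzeq
          exact hzeq.symm
        have hx1 : x = 1 := hnq R hRp x (hcon hxC) ⟨a, hxq⟩
        have hg1 : (g ^ m : ↥Y1) = 1 := Subtype.ext hx1
        rw [hg1, map_one, hπ, hg] at hm
        rw [← orderOf_coe, ← hm, orderOf_one] at hd
        exact hq.out.one_lt.ne hd
      set S1 : Sylow p ↥Y1 := S.subtype hSY1 with hS1
      set SQ : Sylow p (↥Y1 ⧸ Z1) := S1.mapSurjective (QuotientGroup.mk'_surjective Z1) with hSQ
      obtain ⟨Kb, hKb, xb, hxq, hxn, hxc⟩ := ih _ hlt (↥Y1 ⧸ Z1) rfl hprQ hconQ hqQ SQ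
      have hSQc : (SQ : Subgroup (↥Y1 ⧸ Z1)) = ((S : Subgroup Y).subgroupOf Y1).map π := rfl
      have hmemSQ : ∀ s : ↥(S : Subgroup Y), π (Subgroup.inclusion hSY1 s) ∈ (SQ : Subgroup (↥Y1 ⧸ Z1)) :=
        fun s => hSQc ▸ mem_map_of_mem π (mem_subgroupOf.2 s.2)
      let φ : ↥(S : Subgroup Y) →* ↥(SQ : Subgroup (↥Y1 ⧸ Z1)) :=
        (π.comp (Subgroup.inclusion hSY1)).codRestrict _ hmemSQ
      have hφ : Function.Surjective φ := by
        rintro ⟨b, hb⟩
        rw [hSQc] at hb
        obtain ⟨w, hw, rfl⟩ := hb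
        exact ⟨⟨(w : Y), mem_subgroupOf.1 hw⟩, Subtype.ext rfl⟩
      have hker : φ.ker = Z0 := by
        ext s
        rw [MonoidHom.mem_ker, Subtype.ext_iff]
        change π (Subgroup.inclusion hSY1 s) = 1 ↔ _
        rw [hπ, QuotientGroup.mk'_apply, QuotientGroup.eq_one_iff, hZ1, mem_subgroupOf]
        exact mem_map_iff_mem (S : Subgroup Y).subtype_injective
      haveI := hKb
      refine ⟨Kb.comap φ, characteristic_comap φ hφ (hker ▸ hZ0) Kb, ?_⟩
      obtain ⟨g, hg⟩ := QuotientGroup.mk'_surjective Z1 xb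
      obtain ⟨m, hmq, hm⟩ := exists_qpart (q := q) π g (by rw [hπ, hg]; exact hxq)
      have hm' : π (g ^ m) = xb := by rw [hm, hπ, hg]
      set x := ((g ^ m : ↥Y1) : Y) with hx
      obtain ⟨a, ha⟩ := hmq
      refine ⟨x, ⟨a, by rw [hx, ← SubmonoidClass.coe_pow, ha]; rfl⟩, ?_, ?_⟩
      · refine mem_normalizer_fintype ?_
        rintro _ ⟨s, hs, rfl⟩
        have h1 : ((φ s : ↥(SQ : Subgroup (↥Y1 ⧸ Z1))) : ↥Y1 ⧸ Z1) ∈ Kb.map (SQ : Subgroup (↥Y1 ⧸ Z1)).subtype :=
          mem_map_of_mem (SQ : Subgroup (↥Y1 ⧸ Z1)).subtype (show φ s ∈ Kb from hs)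
        obtain ⟨⟨b, hbS⟩, hbK, hbe⟩ := (mem_normalizer_iff.1 hxn _).1 h1
        set w : ↥Y1 := g ^ m * Subgroup.inclusion hSY1 s * (g ^ m)⁻¹ with hw
        have hwb : π w = b := by
          rw [hw, map_mul, map_mul, map_inv, hm']
          exact hbe.symm
        have hwS : (w : Y) ∈ (S : Subgroup Y) := by
          rw [hSQc] at hbS
          obtain ⟨v, hv, hve⟩ := hbS
          have h2 : v⁻¹ * w ∈ Z1 := QuotientGroup.eq.1 (hve.trans hwb.symm)
          have := (S : Subgroup Y).mul_mem (mem_subgroupOf.1 hv) (hZS (mem_subgroupOf.1 h2))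
          simpa using this
        refine ⟨⟨w, hwS⟩, ?_, rfl⟩
        have : φ ⟨w, hwS⟩ = ⟨b, hbS⟩ := Subtype.ext hwb
        rw [SetLike.mem_coe, mem_comap, this]
        exact hbK
      · intro hcen
        apply hxc
        rw [mem_centralizer_iff]
        rintro _ ⟨b, hb, rfl⟩
        obtain ⟨s, rfl⟩ := hφ b
        have h1 := mem_centralizer_iff.1 hcen (s : Y) ⟨s, hb, rfl⟩
        change π (Subgroup.inclusion hSY1 s) * xb = xb * π (Subgroup.inclusion hSY1 s)
        rw [← hm', ← map_mul, ← map_mul]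
        exact congrArg π (Subtype.ext h1)
    · -- use the Thompson subgroup
      set J := Cfsg.thompsonSubgroup p ↥(S : Subgroup Y) with hJ
      have hZJ : Z0 ≤ J := by
        refine (closure_le _).2 fun z hz => ?_
        obtain ⟨A, hA, hmax⟩ : ∃ A ∈ {A : Subgroup ↥(S : Subgroup Y) | Cfsg.IsElementaryAbelian p A},
            ∀ B ∈ {A : Subgroup ↥(S : Subgroup Y) | Cfsg.IsElementaryAbelian p A},
              Nat.card ↥B ≤ Nat.card ↥A := by
          refine Set.exists_max_image _ (fun A : Subgroup ↥(S : Subgroup Y) => Nat.card ↥A)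
            (Set.toFinite _) ⟨⊥, ⟨⟨fun x y => Subsingleton.elim _ _⟩⟩, fun a ha => ?_⟩
          rw [mem_bot.1 ha, one_pow]
        have hB : Cfsg.IsElementaryAbelian p (closure ((A : Set ↥(S : Subgroup Y)) ∪ {z})) := by
          refine Thompson.isElementaryAbelian_closure ?_ ?_
          · rintro u (hu | rfl) v (hv | rfl)
            · exact Thompson.commute_of_elementary hA hu hv
            · exact mem_center_iff.1 hz.1 u
            · exact (mem_center_iff.1 hz.1 v).symm
            · rfl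
          · rintro u (hu | rfl)
            exacts [hA.2 u hu, hz.2]
        have hle : A ≤ closure ((A : Set ↥(S : Subgroup Y)) ∪ {z}) := fun a ha => subset_closure (Or.inl ha)
        have heq := eq_of_le_of_card_ge hle (hmax _ hB)
        have hzA : z ∈ A := heq ▸ subset_closure (Or.inr rfl)
        exact (le_sSup (⟨hA, fun B hB => hmax B hB⟩ :
          A ∈ Cfsg.maxElementaryAbelianSubgroups p ↥(S : Subgroup Y)) : A ≤ J) hzA
      refine ⟨J, Thompson.thompsonSubgroup_characteristic, ?_⟩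
      set N := normalizer (J.map (S : Subgroup Y).subtype : Set Y) with hNdef
      have hqN : q ∣ Nat.card ↥N := by
        by_contra hqN
        have hfac := thompson_factorizable h23 hpr hO
        have hC : IsPGroup p ↥Y1 := isPGroup_of_pq (q := q)
          (fun r hr hd => hpr r hr (hd.trans (card_subgroup_dvd_card Y1))) hqY1
        have hN : IsPGroup p ↥N := isPGroup_of_pq (q := q)
          (fun r hr hd => hpr r hr (hd.trans (card_subgroup_dvd_card N))) hqN
        haveI := Thompson.thompsonSubgroup_characteristic (G := ↥(S : Subgroup Y)) (p := p)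
        have hSN : (S : Subgroup Y) ≤ N :=
          le_normalizer.trans (normalizer_le_normalizer_char _ J)
        have e1 : Y1 = (S : Subgroup Y) := S.3 hC hSY1
        have e2 : N = (S : Subgroup Y) := S.3 hN hSN
        have htop : (S : Subgroup Y) = ⊤ := by
          refine eq_top_iff.2 fun g _ => ?_
          obtain ⟨x, hx, c, hc, m, hm, rfl⟩ := hfac S g
          rw [hO, mem_bot] at hx
          rw [hx, one_mul]
          exact (S : Subgroup Y).mul_mem (e1 ▸ centralizer_le (SetLike.coe_subset_coe.2 hZΩ) hc)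
            (e2 ▸ hm)
        obtain ⟨x, -, hxq, hx1⟩ := hqelt ⊤ (by rwa [card_top])
        exact hx1 (hnq ⊤ (htop ▸ S.2) x (mem_top x) hxq)
      obtain ⟨x, hxN, hxq, hx1⟩ := hqelt N hqN
      refine ⟨x, hxq, hxN, fun hxc => hqY1 ?_⟩
      have hxY1 : x ∈ Y1 := by
        refine centralizer_le ?_ hxc
        exact SetLike.coe_subset_coe.2 (map_mono hZJ)
      obtain ⟨a, ha⟩ := hxq
      exact dvd_of_isQ (g := (⟨x, hxY1⟩ : ↥Y1)) ⟨a, Subtype.ext (by simpa using ha)⟩
        (fun e => hx1 (congrArg Subtype.val e))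

end Cfsg.Agent.Lib.Automizer
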