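import Mathlib
import Cfsg.Agent.Lib.Automizer.Basic
import Cfsg.Agent.Lib.GenStruct.PHall
import Cfsg.Agent.Lib.Fusion.PSolvableModel

/-! `{p, q}`-Hall subgroups of `p`-solvable groups. -/

set_option autoImplicit false

namespace Cfsg.Agent.Lib.Automizer

open Subgroup

universe u

variable {p q : ℕ} [hp : Fact p.Prime] [hq : Fact q.Prime]

theorem exists_minimal_layer {A : Type u} [Group A] [Finite A] [Nontrivial A]
    (h : Cfsg.IsPSolvable p A) :
    ∃ N : Subgroup A, N.Normal ∧ N ≠ ⊥ ∧ ((∃ m, Nat.card ↥N = p ^ m) ∨ (Nat.card ↥N).Coprime p) := by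
  obtain ⟨n, H, h0, hlast, -, hn, hstep⟩ := h
  by_contra hno
  push Not at hno
  have : ∀ i, H i = ⊥ := by
    intro i
    induction i using Fin.induction with
    | zero => exact h0
    | succ i ih =>
      by_contra hne
      obtain ⟨hA, hB⟩ := hno (H i.succ) (hn i.succ) hne
      rcases hstep i with ⟨m, hm⟩ | hc
      · rw [ih, relIndex_bot_left] at hm; exact hA m hm
      · rw [ih, relIndex_bot_left] at hc; exact hB hc
  exact top_ne_bot (hlast.symm.trans (this _))

theorem exists_pq_hall (hpq : p ≠ q) :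
    ∀ (n : ℕ) (A : Type u) [Group A] [Finite A], Nat.card A = n → Cfsg.IsPSolvable p A →
      ∃ B : Subgroup A, (∀ r : ℕ, r.Prime → r ∣ Nat.card ↥B → r = p ∨ r = q) ∧
        ¬ p ∣ B.index ∧ ¬ q ∣ B.index := by
  intro n
  induction n using Nat.strong_induction_on with
  | _ n ih =>
    intro A _ _ hn hA
    -- recursion into a proper subgroup of good index
    have recD : ∀ D : Subgroup A, D ≠ ⊤ → ¬ p ∣ D.index → ¬ q ∣ D.index →
        ∃ B : Subgroup A, (∀ r : ℕ, r.Prime → r ∣ Nat.card ↥B → r = p ∨ r = q) ∧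
          ¬ p ∣ B.index ∧ ¬ q ∣ B.index := by
      intro D hD hDp hDq
      have hlt : Nat.card ↥D < n := hn ▸
        lt_of_le_of_ne (Subgroup.card_le_card_group D) (fun e => hD (Subgroup.eq_top_of_card_eq D e))
      obtain ⟨B, hB, hBp, hBq⟩ := ih _ hlt ↥D rfl (GenStruct.PHall.isPSolvable_subgroup hA D)
      refine ⟨B.map D.subtype, fun r hr hd => hB r hr ?_, ?_, ?_⟩
      · rwa [card_map_of_injective D.subtype_injective] at hd
      all_goals rw [index_map_subtype]
      · exact fun hd => ((hp.out.dvd_mul).1 hd).elim hBp hDp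
      · exact fun hd => ((hq.out.dvd_mul).1 hd).elim hBq hDq
    have triv : (∀ r : ℕ, r.Prime → r ∣ Nat.card A → r = p ∨ r = q) →
        ∃ B : Subgroup A, (∀ r : ℕ, r.Prime → r ∣ Nat.card ↥B → r = p ∨ r = q) ∧
          ¬ p ∣ B.index ∧ ¬ q ∣ B.index := fun h =>
      ⟨⊤, fun r hr hd => h r hr (by rwa [card_top] at hd), by simp [hp.out.not_dvd_one],
        by simp [hq.out.not_dvd_one]⟩
    by_cases hnt : Nontrivial A
    swap
    · rw [not_nontrivial_iff_subsingleton] at hnt
      exact triv fun r hr hd => absurd hd (by rw [Nat.card_of_subsingleton (1 : A)]; exact hr.not_dvd_one)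
    obtain ⟨N, hN, hNne, hNcase⟩ := exists_minimal_layer hA
    have quot : ∀ M : Subgroup A, M.Normal → M ≠ ⊥ → ∃ D : Subgroup A, M ≤ D ∧
        (∀ r : ℕ, r.Prime → r ∣ M.relIndex D → r = p ∨ r = q) ∧ ¬ p ∣ D.index ∧ ¬ q ∣ D.index := by
      intro M hM hMne
      have hlt : Nat.card (A ⧸ M) < n := by
        rw [← hn, Subgroup.card_eq_card_quotient_mul_card_subgroup M]
        exact lt_mul_of_one_lt_right Nat.card_pos ((Subgroup.one_lt_card_iff_ne_bot M).2 hMne)
      obtain ⟨B, hB, hBp, hBq⟩ := ih _ hlt (A ⧸ M) rfl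
        (Fusion.PSolvableModel.isPSolvable_of_surjective (f := QuotientGroup.mk' M) (QuotientGroup.mk'_surjective M) hA)
      refine ⟨B.comap (QuotientGroup.mk' M), ?_, fun r hr hd => hB r hr ?_, ?_, ?_⟩
      · intro x hx
        rw [mem_comap, show QuotientGroup.mk' M x = 1 from (QuotientGroup.eq_one_iff x).2 hx]
        exact B.one_mem
      · have h1 : M.relIndex (B.comap (QuotientGroup.mk' M)) = Nat.card ↥B := by
          have h2 := relIndex_comap (⊥ : Subgroup (A ⧸ M)) (QuotientGroup.mk' M) (B.comap (QuotientGroup.mk' M))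
          rw [MonoidHom.comap_bot, QuotientGroup.ker_mk',
            map_comap_eq_self_of_surjective (QuotientGroup.mk'_surjective M), relIndex_bot_left] at h2
          exact h2
        rwa [h1] at hd
      all_goals rw [index_comap_of_surjective _ (QuotientGroup.mk'_surjective M)]
      exacts [hBp, hBq]
    have finish : ∀ M : Subgroup A, M.Normal → M ≠ ⊥ →
        (∀ r : ℕ, r.Prime → r ∣ Nat.card ↥M → r = p ∨ r = q) →
        ∃ B : Subgroup A, (∀ r : ℕ, r.Prime → r ∣ Nat.card ↥B → r = p ∨ r = q) ∧
          ¬ p ∣ B.index ∧ ¬ q ∣ B.index := by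
      intro M hM hMne hMpr
      obtain ⟨D, hMD, hD, hDp, hDq⟩ := quot M hM hMne
      refine ⟨D, fun r hr hd => ?_, hDp, hDq⟩
      have h1 := relIndex_mul_relIndex (⊥ : Subgroup A) M D bot_le hMD
      rw [relIndex_bot_left, relIndex_bot_left] at h1
      rw [← h1] at hd
      rcases hr.dvd_mul.1 hd with h | h
      exacts [hMpr r hr h, hD r hr h]
    rcases hNcase with ⟨m, hm⟩ | hco
    · exact finish N hN hNne fun r hr hd =>
        Or.inl ((Nat.prime_dvd_prime_iff_eq hr hp.out).1 (hr.dvd_of_dvd_pow (hm ▸ hd)))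
    obtain ⟨D, hND, hD, hDp, hDq⟩ := quot N hN hNne
    by_cases hDtop : D = ⊤
    swap
    · exact recD D hDtop hDp hDq
    subst hDtop
    rw [relIndex_top_right] at hD
    obtain ⟨Q⟩ : Nonempty (Sylow q ↥N) := inferInstance
    set Qa := (Q : Subgroup ↥N).map N.subtype with hQa
    have hfr : normalizer (Qa : Set A) ⊔ N = ⊤ := Sylow.normalizer_sup_eq_top Q
    by_cases hDq' : normalizer (Qa : Set A) = ⊤
    · haveI : Qa.Normal := normalizer_eq_top_iff.1 hDq'
      by_cases hQ : Qa = ⊥
      · -- `N` has order prime to `p` and `q`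
        have hNq : ¬ q ∣ Nat.card ↥N := fun hd => by
          have h2 : q ∣ Nat.card ↥(Q : Subgroup ↥N) := Q.dvd_card_of_dvd_card hd
          rw [← card_map_of_injective N.subtype_injective, ← hQa, hQ, card_bot] at h2
          exact hq.out.not_dvd_one h2
        have hcop : (Nat.card ↥N).Coprime N.index := Nat.coprime_of_dvd fun r hr hd hi => by
          rcases hD r hr hi with rfl | rfl
          · exact (hp.out.coprime_iff_not_dvd.1 hco.symm) hd
          · exact hNq hd
        obtain ⟨K, hK⟩ := Subgroup.exists_right_complement'_of_coprime hcop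
        have hKcard : Nat.card ↥K = N.index := hK.symm.index_eq_card.symm
        refine ⟨K, fun r hr hd => hD r hr (hKcard ▸ hd), ?_, ?_⟩
        all_goals rw [hK.index_eq_card]
        exacts [hp.out.coprime_iff_not_dvd.1 hco.symm, hNq]
      · refine finish Qa inferInstance hQ fun r hr hd => Or.inr ?_
        obtain ⟨e, he⟩ := IsPGroup.iff_card.1 (Q.2.map N.subtype)
        exact (Nat.prime_dvd_prime_iff_eq hr hq.out).1 (hr.dvd_of_dvd_pow (he ▸ hd))
    · have hidx : (normalizer (Qa : Set A)).index = (normalizer (Qa : Set A)).relIndex N := by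
        set H := normalizer (Qa : Set A)
        have e1 : N.relIndex H = N.index := by rw [← relIndex_sup_right, hfr, relIndex_top_right]
        have e2 : (H ⊓ N).relIndex H = N.index := by rw [inf_relIndex_left, e1]
        have e3 : (H ⊓ N).relIndex N = H.relIndex N := inf_relIndex_right H N
        have a1 := relIndex_mul_relIndex (⊥ : Subgroup A) (H ⊓ N) H bot_le inf_le_left
        have a2 := relIndex_mul_relIndex (⊥ : Subgroup A) (H ⊓ N) N bot_le inf_le_right
        rw [relIndex_bot_left, relIndex_bot_left] at a1 a2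
        rw [e2] at a1
        rw [e3] at a2
        have a3 := H.card_mul_index
        have a4 := N.card_mul_index
        have hpos : 0 < Nat.card ↥(H ⊓ N : Subgroup A) * N.index := by
          rw [a1]; exact Nat.card_pos
        refine Nat.eq_of_mul_eq_mul_left hpos ?_
        calc Nat.card ↥(H ⊓ N : Subgroup A) * N.index * H.index = Nat.card A := by rw [a1, a3]
          _ = Nat.card ↥N * N.index := a4.symm
          _ = _ := by rw [← a2]; ring
      have h1 : (normalizer (Qa : Set A)).relIndex N = Nat.card (Sylow q ↥N) := by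
        rw [Sylow.card_eq_index_normalizer Q, relIndex, hQa]
        rw [subgroupOf_normalizer_eq (map_subtype_le _), subgroupOf,
          comap_map_eq_self_of_injective N.subtype_injective]
        rfl
      refine recD _ hDq' ?_ ?_
      · rw [hidx, h1]
        exact fun hd => hp.out.coprime_iff_not_dvd.1 hco.symm
          (hd.trans ((Sylow.card_eq_index_normalizer Q) ▸ Subgroup.index_dvd_card _))
      · rw [hidx, h1]
        exact not_dvd_card_sylow q ↥N

end Cfsg.Agent.Lib.Automizer
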