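import Mathlib
import Cfsg.Agent.Lib.Automizer.Basic
import Cfsg.Agent.Lib.Automizer.PairHall

/-! Moving a prime divisor of the automizer of a `p`-subgroup to a subgroup normal in a Sylow
`p`-subgroup. -/

set_option autoImplicit false

namespace Cfsg.Agent.Lib.Automizer

open scoped Pointwise

open Subgroup

universe u

variable {p q : ℕ} [hp : Fact p.Prime] [hq : Fact q.Prime]

/-- Some element of `q`-power order normalizes but does not centralize `H`. -/
def Moves {G : Type*} [Group G] (q : ℕ) (H : Subgroup G) : Prop :=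
  ∃ x : G, IsQ q x ∧ x ∈ normalizer (H : Set G) ∧ x ∉ centralizer (H : Set G)

theorem centralizer_subgroupOf_normal {G : Type*} [Group G] (H : Subgroup G) :
    ((centralizer (H : Set G)).subgroupOf (normalizer (H : Set G))).Normal := by
  refine ⟨fun c hc g => ?_⟩
  rw [mem_subgroupOf, mem_centralizer_iff] at *
  intro h hh
  have hh' : (g : G)⁻¹ * h * g ∈ H := by
    have := (mem_normalizer_iff.1 g.2 ((g : G)⁻¹ * h * g)).2
    apply this
    simpa [mul_assoc] using hh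
  have h1 := hc _ hh'
  push_cast
  calc h * ((g : G) * c * (g : G)⁻¹) = g * ((g : G)⁻¹ * h * g * c) * (g : G)⁻¹ := by group
    _ = g * (c * ((g : G)⁻¹ * h * g)) * (g : G)⁻¹ := by rw [h1]
    _ = (g : G) * c * (g : G)⁻¹ * h := by group

theorem moves_iff {G : Type*} [Group G] [Finite G] (H : Subgroup G) :
    Moves q H ↔
      q ∣ ((centralizer (H : Set G)).subgroupOf (normalizer (H : Set G))).index := by
  haveI := centralizer_subgroupOf_normal H
  set C := (centralizer (H : Set G)).subgroupOf (normalizer (H : Set G))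
  constructor
  · rintro ⟨x, ⟨a, ha⟩, hx, hxc⟩
    rw [index_eq_card]
    refine dvd_of_isQ (g := QuotientGroup.mk' C ⟨x, hx⟩) ⟨a, ?_⟩ fun e => hxc ?_
    · rw [← map_pow, show (⟨x, hx⟩ : ↥(normalizer (H : Set G))) ^ (q ^ a) = 1 from Subtype.ext ha,
        map_one]
    · exact mem_subgroupOf.1 ((QuotientGroup.eq_one_iff _).1 e)
  · intro h
    rw [index_eq_card] at h
    obtain ⟨d, hd⟩ := exists_prime_orderOf_dvd_card' q h
    obtain ⟨g, hg⟩ := QuotientGroup.mk'_surjective C d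
    obtain ⟨m, ⟨a, ha⟩, hm⟩ := exists_qpart (q := q) (QuotientGroup.mk' C) g
      ⟨1, by rw [hg, pow_one, ← hd]; exact pow_orderOf_eq_one d⟩
    refine ⟨((g ^ m : ↥(normalizer (H : Set G))) : G), ⟨a, ?_⟩, (g ^ m).2, fun hc => ?_⟩
    · rw [← SubmonoidClass.coe_pow, ha]; rfl
    · have : QuotientGroup.mk' C (g ^ m) = 1 := (QuotientGroup.eq_one_iff _).2 (mem_subgroupOf.2 hc)
      rw [hm, hg] at this
      rw [this, orderOf_one] at hd
      exact hq.out.one_lt.ne hd

theorem Moves.conj {G : Type*} [Group G] {H : Subgroup G} (h : Moves q H) (g : G) :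
    Moves q (H.map (MulAut.conj g).toMonoidHom) := by
  obtain ⟨x, ⟨a, ha⟩, hx, hxc⟩ := h
  refine ⟨g * x * g⁻¹, ⟨a, by simp [conj_pow, ha]⟩, ?_, fun hc => hxc ?_⟩
  · rw [mem_normalizer_iff]
    intro y
    simp only [mem_map_equiv, MulAut.conj_symm_apply]
    rw [show g⁻¹ * (g * x * g⁻¹ * y * (g * x * g⁻¹)⁻¹) * g = x * (g⁻¹ * y * g) * x⁻¹ by group]
    exact mem_normalizer_iff.1 hx _
  · rw [mem_centralizer_iff] at hc ⊢
    intro h hh
    have h1 := hc (g * h * g⁻¹) ⟨h, hh, rfl⟩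
    have h2 : g * (h * x) * g⁻¹ = g * (x * h) * g⁻¹ := by
      calc g * (h * x) * g⁻¹ = g * h * g⁻¹ * (g * x * g⁻¹) := by group
        _ = g * x * g⁻¹ * (g * h * g⁻¹) := h1
        _ = _ := by group
    exact mul_left_cancel (mul_right_cancel h2)

/-- Lift of a normalizing element through a quotient of coprime order. -/
theorem exists_lift_normalizer {G : Type*} [Group G] [Finite G] (W : Subgroup G) [W.Normal]
    {K : Subgroup G} (hK : IsPGroup p ↥K) (hW : ¬ p ∣ Nat.card ↥W) (g : G)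
    (hg : QuotientGroup.mk' W g ∈
      normalizer ((K.map (QuotientGroup.mk' W) : Subgroup (G ⧸ W)) : Set (G ⧸ W))) :
    ∃ z : G, z ∈ normalizer (K : Set G) ∧ QuotientGroup.mk' W z = QuotientGroup.mk' W g := by
  set π := QuotientGroup.mk' W with hπ
  set U := K ⊔ W with hU
  have hcomap : (K.map π).comap π = U := by rw [comap_map_eq, hπ, QuotientGroup.ker_mk']
  have hgU : ∀ y ∈ U, g * y * g⁻¹ ∈ U := fun y hy => by
    rw [← hcomap, mem_comap] at hy ⊢
    rw [map_mul, map_mul, map_inv]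
    exact (mem_normalizer_iff.1 hg _).1 hy
  have hKU : K ≤ U := le_sup_left
  set K2 := K.map (MulAut.conj g).toMonoidHom with hK2
  have hK2U : K2 ≤ U := by
    rintro _ ⟨k, hk, rfl⟩
    exact hgU k (hKU hk)
  have hidx : ¬ p ∣ (K.subgroupOf U).index := by
    change ¬ p ∣ K.relIndex U
    rw [hU, sup_comm]
    have h1 : K.relIndex (W ⊔ K) ∣ Nat.card ↥W := by
      have a1 := relIndex_mul_relIndex (⊥ : Subgroup G) K (W ⊔ K) bot_le le_sup_right
      have a2 := relIndex_mul_relIndex (⊥ : Subgroup G) W (W ⊔ K) bot_le le_sup_left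
      rw [relIndex_bot_left, relIndex_bot_left] at a1 a2
      rw [relIndex_sup_left] at a2
      have a3 : W.relIndex K ∣ Nat.card ↥K := by
        rw [← relIndex_bot_left K]; exact relIndex_dvd_of_le_left K bot_le
      obtain ⟨c, hc⟩ := a3
      have hc0 : 0 < W.relIndex K := Nat.pos_of_ne_zero index_ne_zero_of_finite
      refine ⟨c, ?_⟩
      rw [hc, ← a2] at a1
      exact Nat.eq_of_mul_eq_mul_left hc0 (by rw [← mul_assoc, ← mul_comm (Nat.card ↥W)]; rw [← a1]; ring)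
    exact fun hd => hW (hd.trans h1)
  have hK1p : IsPGroup p ↥(K.subgroupOf U) := hK.of_equiv (subgroupOfEquivOfLe hKU).symm
  have hK2p : IsPGroup p ↥(K2.subgroupOf U) := (hK.map _).of_equiv (subgroupOfEquivOfLe hK2U).symm
  set S1 : Sylow p ↥U := hK1p.toSylow hidx
  obtain ⟨S2, hS2⟩ := hK2p.exists_le_sylow
  obtain ⟨u, hu⟩ := MulAction.exists_smul_eq ↥U S1 S2
  obtain ⟨w, hw, k, hk, huwk⟩ := Set.mem_mul.1 (show (u : G) ∈ (W : Set G) * (K : Set G) from by
    rw [← normal_mul W K, sup_comm]; exact u.2)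
  refine ⟨w⁻¹ * g, mem_normalizer_fintype fun y hy => ?_, ?_⟩
  · have h1 : (⟨g * y * g⁻¹, hgU y (hKU hy)⟩ : ↥U) ∈ (S2 : Subgroup ↥U) :=
      hS2 (mem_subgroupOf.2 ⟨y, hy, rfl⟩)
    rw [← hu, Sylow.coe_subgroup_smul, mem_pointwise_smul_iff_inv_smul_mem] at h1
    have h2 : (u : G)⁻¹ * (g * y * g⁻¹) * u ∈ K := by
      have := mem_subgroupOf.1 h1
      simpa [MulAut.smul_def, mul_assoc] using this
    have h3 := K.mul_mem (K.mul_mem hk h2) (K.inv_mem hk)
    rw [← huwk] at h3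
    rwa [show k * ((w * k)⁻¹ * (g * y * g⁻¹) * (w * k)) * k⁻¹ = w⁻¹ * g * y * (w⁻¹ * g)⁻¹ by group] at h3
  · rw [hπ, map_mul, map_inv, show QuotientGroup.mk' W w = 1 from (QuotientGroup.eq_one_iff w).2 hw,
      inv_one, one_mul]

/-- `p`-part of the order of the normalizer. -/
noncomputable def nVal {G : Type*} [Group G] (p : ℕ) (H : Subgroup G) : ℕ :=
  (Nat.card ↥(normalizer (H : Set G))).factorization p

theorem le_nVal {G : Type*} [Group G] [Finite G] {H P : Subgroup G} (hP : IsPGroup p ↥P)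
    (hle : P ≤ normalizer (H : Set G)) : (Nat.card ↥P).factorization p ≤ nVal p H :=
  (Nat.factorization_le_iff_dvd Nat.card_pos.ne' Nat.card_pos.ne').2 (card_dvd_of_le hle) p

/-- Enlarging `H` by the centralizing part of a Sylow subgroup of its normalizer. -/
theorem exists_enlarge {G : Type u} [Group G] [Finite G] (H : Subgroup G) (hH : IsPGroup p ↥H)
    (hm : Moves q H) (X : Subgroup G) (hX : X = normalizer (H : Set G)) (S : Sylow p ↥X) :
    ∃ H1 : Subgroup G, H ≤ H1 ∧ IsPGroup p ↥H1 ∧ Moves q H1 ∧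
      (S : Subgroup ↥X).map X.subtype ≤ normalizer (H1 : Set G) ∧
      ((S : Subgroup ↥X) ⊓ (centralizer (H : Set G)).subgroupOf X).map X.subtype ≤ H1 := by
  haveI : ((centralizer (H : Set G)).subgroupOf X).Normal := by
    subst hX; exact centralizer_subgroupOf_normal H
  set C := (centralizer (H : Set G)).subgroupOf X with hC
  set T := (S : Subgroup ↥X) ⊓ C with hT
  have hTp : IsPGroup p ↥T := S.2.to_le inf_le_left
  -- `T` is a Sylow subgroup of `C`
  obtain ⟨T0⟩ : Nonempty (Sylow p ↥C) := inferInstance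
  obtain ⟨S', hS'⟩ := (T0.2.map C.subtype).exists_le_sylow
  obtain ⟨g, hg⟩ := MulAction.exists_smul_eq ↥X S' S
  have hTidx : ¬ p ∣ (T.subgroupOf C).index := by
    have hcard : Nat.card ↥(T0 : Subgroup ↥C) ≤ Nat.card ↥T := by
      rw [← card_map_of_injective C.subtype_injective,
        ← card_map_of_injective (f := (MulAut.conj g).toMonoidHom) (MulAut.conj g).injective]
      refine card_le_of_le ?_
      rintro _ ⟨c, hc, rfl⟩
      refine mem_inf.2 ⟨?_, (inferInstance : C.Normal).conj_mem c (map_subtype_le _ hc) g⟩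
      rw [← hg, Sylow.coe_subgroup_smul]
      exact smul_mem_pointwise_smul _ _ _ (hS' hc)
    obtain ⟨T1, hT1⟩ := (hTp.of_equiv (subgroupOfEquivOfLe (inf_le_right : T ≤ C)).symm).exists_le_sylow
    have h2 : T.subgroupOf C = (T1 : Subgroup ↥C) := eq_of_le_of_card_ge hT1 (by
      rw [Nat.card_congr (subgroupOfEquivOfLe (inf_le_right : T ≤ C)).toEquiv]
      exact (Sylow.card_eq_multiplicity T1).trans_le
        ((Sylow.card_eq_multiplicity T0).symm.trans_le hcard))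
    rw [h2]
    exact T1.not_dvd_index
  set T0' : Sylow p ↥C :=
    (hTp.of_equiv (subgroupOfEquivOfLe (inf_le_right : T ≤ C)).symm).toSylow hTidx
  have hTmap : (T0' : Subgroup ↥C).map C.subtype = T := map_subgroupOf_eq_of_le inf_le_right
  have hfr : normalizer (T : Set ↥X) ⊔ C = ⊤ := by
    have := Sylow.normalizer_sup_eq_top T0'
    rwa [hTmap] at this
  obtain ⟨x, hxq, hxX', hxc⟩ := hm
  have hxX : x ∈ X := hX ▸ hxX'
  obtain ⟨y, hy, c, hc, hyc⟩ := Set.mem_mul.1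
    (show (⟨x, hxX⟩ : ↥X) ∈ (normalizer (T : Set ↥X) : Set ↥X) * (C : Set ↥X) from by
      rw [← mul_normal, hfr]; exact mem_top _)
  have hπ : QuotientGroup.mk' C y = QuotientGroup.mk' C ⟨x, hxX⟩ := by
    rw [← hyc, map_mul, show QuotientGroup.mk' C c = 1 from (QuotientGroup.eq_one_iff c).2 hc, mul_one]
  obtain ⟨m, ⟨a, ha⟩, hm'⟩ := exists_qpart (q := q) (QuotientGroup.mk' C) y (by
    obtain ⟨b, hb⟩ := hxq
    refine ⟨b, ?_⟩
    rw [hπ, ← map_pow, show (⟨x, hxX⟩ : ↥X) ^ (q ^ b) = 1 from Subtype.ext hb, map_one])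
  set H0 := H.subgroupOf X
  have hHX : H ≤ X := hX ▸ le_normalizer
  haveI : H0.Normal := by subst hX; exact normal_in_normalizer
  have hH0S : H0 ≤ (S : Subgroup ↥X) :=
    (hH.of_equiv (subgroupOfEquivOfLe hHX).symm).le_sylow_of_normal S
  set H1 := (H0 ⊔ T).map X.subtype
  have hle : H ≤ H1 := by
    rw [show H = H0.map X.subtype from (map_subgroupOf_eq_of_le hHX).symm]
    exact map_mono le_sup_left
  have hnorm : ∀ z : ↥X, z ∈ normalizer (T : Set ↥X) → (z : G) ∈ normalizer (H1 : Set G) := by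
    intro z hz
    have hz' : z ∈ normalizer ((H0 ⊔ T : Subgroup ↥X) : Set ↥X) := by
      refine mem_normalizer_fintype fun w hw => ?_
      have : (H0 ⊔ T).map (MulAut.conj z).toMonoidHom ≤ H0 ⊔ T := by
        rw [Subgroup.map_sup]
        refine sup_le_sup ?_ ?_
        · rintro _ ⟨h, hh, rfl⟩
          exact (inferInstance : H0.Normal).conj_mem h hh z
        · rintro _ ⟨t, ht, rfl⟩
          exact (mem_normalizer_iff.1 hz t).1 ht
      exact this ⟨w, hw, rfl⟩
    exact le_normalizer_map X.subtype ⟨z, hz', rfl⟩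
  have hle' : H0 ⊔ T ≤ (S : Subgroup ↥X) := sup_le hH0S (hT ▸ inf_le_left)
  have hp1 : IsPGroup p ↥H1 := IsPGroup.map (S.2.to_le hle') X.subtype
  have hT1 : T.map X.subtype ≤ H1 := map_mono (le_sup_right : T ≤ H0 ⊔ T)
  refine ⟨H1, hle, hp1, ?_, ?_, hT1⟩
  · refine ⟨((y ^ m : ↥X) : G), ⟨a, by rw [← SubmonoidClass.coe_pow, ha]; rfl⟩,
      hnorm _ (pow_mem hy m), fun hcen => hxc ?_⟩
    have h1 : y ^ m ∈ C := mem_subgroupOf.2 (centralizer_le (SetLike.coe_subset_coe.2 hle) hcen)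
    have h2 : QuotientGroup.mk' C (⟨x, hxX⟩ : ↥X) = 1 := by
      rw [← hπ, ← hm']; exact (QuotientGroup.eq_one_iff _).2 h1
    exact mem_subgroupOf.1 ((QuotientGroup.eq_one_iff _).1 h2)
  · rintro _ ⟨s, hs, rfl⟩
    refine hnorm s (mem_normalizer_fintype fun w hw => mem_inf.2 ⟨?_, ?_⟩)
    · exact (S : Subgroup ↥X).mul_mem ((S : Subgroup ↥X).mul_mem hs (mem_inf.1 hw).1)
        ((S : Subgroup ↥X).inv_mem hs)
    · exact (inferInstance : C.Normal).conj_mem w (mem_inf.1 hw).2 s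

/-- The local step: if `S ∩ C(H) ≤ H`, a characteristic subgroup of `S` is moved. -/
theorem exists_char_of_saturated {G : Type u} [Group G] [Finite G] (hpq : p ≠ q)
    (h23 : ¬ ((p = 2 ∧ q = 3) ∨ (p = 3 ∧ q = 2))) (H : Subgroup G) (hH : IsPGroup p ↥H)
    (hm : Moves q H) (X : Subgroup G) (hX : X = normalizer (H : Set G))
    [hCn : ((centralizer (H : Set G)).subgroupOf X).Normal]
    (hsol : Cfsg.IsPSolvable p (↥X ⧸ (centralizer (H : Set G)).subgroupOf X))
    (S : Sylow p ↥X)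
    (hsat : (S : Subgroup ↥X) ⊓ (centralizer (H : Set G)).subgroupOf X ≤ H.subgroupOf X) :
    ∃ K : Subgroup ↥((S : Subgroup ↥X).map X.subtype),
      K.Characteristic ∧ Moves q (K.map ((S : Subgroup ↥X).map X.subtype).subtype) := by
  have hq0 : q ∣ ((centralizer (H : Set G)).subgroupOf X).index := by
    subst hX; exact (moves_iff H).1 hm
  set C := (centralizer (H : Set G)).subgroupOf X with hC
  set H0 := H.subgroupOf X with hH0
  have hHX : H ≤ X := hX ▸ le_normalizer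
  haveI : H0.Normal := by subst hX; exact normal_in_normalizer
  have hH0p : IsPGroup p ↥H0 := hH.of_equiv (subgroupOfEquivOfLe hHX).symm
  have hH0S : H0 ≤ (S : Subgroup ↥X) := hH0p.le_sylow_of_normal S
  set W := (Cfsg.pPrimeCore p ↥C).map C.subtype with hW
  have hWC : W ≤ C := map_subtype_le _
  haveI : (Cfsg.pPrimeCore p ↥C).Characteristic := inferInstance
  haveI hWn : W.Normal := ConjAct.normal_of_characteristic_of_normal
  have hWp : ¬ p ∣ Nat.card ↥W := by
    rw [hW, card_map_of_injective C.subtype_injective]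
    exact Components.pPrimeCore_not_dvd p
  -- `C` is a `p`-group modulo `W`
  have hcen : ∀ c ∈ C, ∀ h ∈ H0, h * c = c * h := fun c hc h hh =>
    Subtype.ext (mem_centralizer_iff.1 (mem_subgroupOf.1 hc) _ (mem_subgroupOf.1 hh))
  obtain ⟨T0⟩ : Nonempty (Sylow p ↥C) := inferInstance
  have hT0 : ∀ t ∈ (T0 : Subgroup ↥C), (t : ↥X) ∈ H0 := by
    have h1 : ∀ z : ↥X, z ∈ C → (∃ a, z ^ (p ^ a) = 1) → z ∈ H0 := by
      intro z hz ⟨a, ha⟩
      have hzp : IsPGroup p ↥(zpowers z) := by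
        obtain ⟨b, -, hb⟩ := (Nat.dvd_prime_pow hp.out).1 (orderOf_dvd_iff_pow_eq_one.2 ha)
        exact IsPGroup.of_card (n := b) (by rw [Nat.card_zpowers, hb])
      obtain ⟨P, hP⟩ := hzp.exists_le_sylow
      obtain ⟨g, hg⟩ := MulAction.exists_smul_eq ↥X P S
      have h2 : g * z * g⁻¹ ∈ (S : Subgroup ↥X) := by
        rw [← hg, Sylow.coe_subgroup_smul]
        exact smul_mem_pointwise_smul _ _ _ (hP (mem_zpowers z))
      have h3 := hsat (mem_inf.2 ⟨h2, hCn.conj_mem z hz g⟩)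
      have := (inferInstance : H0.Normal).conj_mem _ h3 g⁻¹
      simpa [mul_assoc] using this
    intro t ht
    obtain ⟨a, ha⟩ := T0.2 ⟨t, ht⟩
    exact h1 t t.2 ⟨a, congrArg (fun z : ↥(T0 : Subgroup ↥C) => ((z : ↥C) : ↥X)) ha⟩
  have hCgen : ∀ c ∈ C, ∃ h ∈ H0, ∃ w ∈ W, c = h * w := by
    have hN : normalizer ((T0 : Subgroup ↥C) : Set ↥C) ≤ centralizer ((T0 : Subgroup ↥C) : Set ↥C) := by
      intro c _
      rw [mem_centralizer_iff]
      intro t ht
      exact Subtype.ext (hcen c c.2 t (hT0 t ht))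
    have hcompl := MonoidHom.ker_transferSylow_isComplement' T0 hN
    set K := (MonoidHom.transferSylow T0 hN).ker
    have hKW : K ≤ Cfsg.pPrimeCore p ↥C := by
      refine Components.le_pPrimeCore ?_
      rw [← hcompl.index_eq_card]
      exact (hp.out.coprime_iff_not_dvd.2 T0.not_dvd_index).symm
    intro c hc
    obtain ⟨⟨k, t⟩, hkt⟩ := hcompl.2 ⟨c, hc⟩
    refine ⟨((t : ↥C) : ↥X), hT0 t t.2, ((k : ↥C) : ↥X), mem_map_of_mem _ (hKW k.2), ?_⟩
    rw [hcen _ (k : ↥C).2 _ (hT0 t t.2)]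
    exact (congrArg Subtype.val hkt).symm
  set π := QuotientGroup.mk' W with hπ
  have hπs : Function.Surjective π := QuotientGroup.mk'_surjective W
  let φ : ↥X ⧸ W →* ↥X ⧸ C := QuotientGroup.map W C (MonoidHom.id ↥X) (fun x hx => hWC hx)
  have hφs : Function.Surjective φ := fun b => by
    obtain ⟨g, rfl⟩ := QuotientGroup.mk'_surjective C b
    exact ⟨π g, rfl⟩
  have hkerle : φ.ker ≤ H0.map π := by
    intro z hz
    obtain ⟨g, rfl⟩ := hπs z
    obtain ⟨h, hh, w, hw, rfl⟩ := hCgen g ((QuotientGroup.eq_one_iff g).1 hz)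
    refine ⟨h, hh, ?_⟩
    rw [map_mul, hπ, show QuotientGroup.mk' W w = 1 from (QuotientGroup.eq_one_iff w).2 hw, mul_one]
  obtain ⟨B, hBpr, hBp, hBq⟩ := exists_pq_hall (q := q) hpq _ (↥X ⧸ C) rfl hsol
  set SQ : Sylow p (↥X ⧸ W) := S.mapSurjective hπs
  have hidx0 : ¬ p ∣ (B.comap φ).index := by rwa [index_comap_of_surjective _ hφs]
  obtain ⟨PY⟩ : Nonempty (Sylow p ↥(B.comap φ)) := inferInstance
  have hPY : ¬ p ∣ ((PY : Subgroup ↥(B.comap φ)).map (B.comap φ).subtype).index := by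
    rw [index_map_subtype]
    exact fun hd => (hp.out.dvd_mul.1 hd).elim PY.not_dvd_index hidx0
  set PQ : Sylow p (↥X ⧸ W) := (PY.2.map (B.comap φ).subtype).toSylow hPY
  obtain ⟨g, hg⟩ := MulAction.exists_smul_eq (↥X ⧸ W) PQ SQ
  set Y := (B.comap φ).map (MulAut.conj g).toMonoidHom with hY
  have hSY : (SQ : Subgroup (↥X ⧸ W)) ≤ Y := by
    rw [← hg, Sylow.coe_subgroup_smul]
    intro z hz
    obtain ⟨w, hw, rfl⟩ := hz
    exact ⟨w, map_subtype_le _ hw, rfl⟩
  have hYcard : Nat.card ↥Y = Nat.card ↥φ.ker * Nat.card ↥B := by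
    rw [hY, card_map_of_injective (MulAut.conj g).injective]
    have h1 := relIndex_mul_relIndex (⊥ : Subgroup (↥X ⧸ W)) φ.ker (B.comap φ) bot_le (φ.ker_le_comap B)
    have h2 := relIndex_comap (⊥ : Subgroup (↥X ⧸ C)) φ (B.comap φ)
    rw [MonoidHom.comap_bot, map_comap_eq_self_of_surjective hφs, relIndex_bot_left] at h2
    rw [relIndex_bot_left, relIndex_bot_left, h2] at h1
    exact h1.symm
  have hHπ : IsPGroup p ↥(H0.map π) := hH0p.map π
  have hYpr : ∀ r : ℕ, r.Prime → r ∣ Nat.card ↥Y → r = p ∨ r = q := by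
    intro r hr hd
    rw [hYcard] at hd
    rcases hr.dvd_mul.1 hd with h | h
    · obtain ⟨e, he⟩ := IsPGroup.iff_card.1 (hHπ.to_le hkerle)
      exact Or.inl ((Nat.prime_dvd_prime_iff_eq hr hp.out).1 (hr.dvd_of_dvd_pow (he ▸ h)))
    · exact hBpr r hr h
  have hqY : q ∣ Nat.card ↥Y := by
    rw [hYcard]
    rw [index_eq_card, ← B.card_mul_index] at hq0
    exact dvd_mul_of_dvd_right (((hq.out.dvd_mul).1 hq0).resolve_right hBq) _
  haveI : (H0.map π).Normal := Normal.map inferInstance π hπs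
  have hHY : H0.map π ≤ Y := (map_mono hH0S).trans hSY
  have hconY : centralizer (Cfsg.pCore p ↥Y : Set ↥Y) ≤ Cfsg.pCore p ↥Y := by
    have hR : (H0.map π).subgroupOf Y ≤ Cfsg.pCore p ↥Y :=
      Components.le_pCore (hHπ.of_equiv (subgroupOfEquivOfLe hHY).symm)
    intro z hz
    apply hR
    rw [mem_subgroupOf]
    obtain ⟨g0, hg0⟩ := hπs (z : ↥X ⧸ W)
    rw [← hg0]
    suffices g0 ∈ C by
      obtain ⟨h, hh, w, hw, rfl⟩ := hCgen g0 this
      exact ⟨h, hh, by rw [map_mul, hπ, show QuotientGroup.mk' W w = 1 from (QuotientGroup.eq_one_iff w).2 hw, mul_one]⟩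
    rw [mem_subgroupOf, mem_centralizer_iff]
    intro h hh
    set h0 : ↥X := ⟨h, hHX hh⟩
    have hh0 : h0 ∈ H0 := hh
    have h1 := mem_centralizer_iff.1 hz ⟨π h0, hHY (mem_map_of_mem π hh0)⟩
      (hR (mem_subgroupOf.2 (mem_map_of_mem π hh0)))
    have h2 : π (h0 * g0) = π (g0 * h0) := by
      rw [map_mul, map_mul, hg0]; exact congrArg Subtype.val h1
    have h3 : (h0 * g0)⁻¹ * (g0 * h0) ∈ W := QuotientGroup.eq.1 h2
    have h4 : (h0 * g0)⁻¹ * (g0 * h0) ∈ H0 := by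
      rw [show (h0 * g0)⁻¹ * (g0 * h0) = g0⁻¹ * h0⁻¹ * g0⁻¹⁻¹ * h0 by group]
      exact H0.mul_mem ((inferInstance : H0.Normal).conj_mem _ (H0.inv_mem hh0) _) hh0
    have h5 : (h0 * g0)⁻¹ * (g0 * h0) ∈ (⊥ : Subgroup ↥X) := by
      rw [← Components.inf_eq_bot_of_pGroup_coprime hH0p
        (hp.out.coprime_iff_not_dvd.2 hWp).symm]
      exact mem_inf.2 ⟨h4, h3⟩
    rw [mem_bot, inv_mul_eq_one] at h5
    exact congrArg Subtype.val h5
  obtain ⟨K, hK, z, ⟨a, ha⟩, hzn, hzc⟩ :=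
    exists_char_moved (p := p) (q := q) hpq h23 _ ↥Y rfl hYpr hconY hqY (SQ.subtype hSY)
  set P := (S : Subgroup ↥X).map X.subtype with hP
  let e : ↥(S : Subgroup ↥X) ≃* ↥P :=
    (S : Subgroup ↥X).equivMapOfInjective X.subtype X.subtype_injective
  have hmemY : ∀ s : ↥(S : Subgroup ↥X), π s ∈ Y := fun s => hSY ⟨s, s.2, rfl⟩
  let ψ0 : ↥(S : Subgroup ↥X) →* ↥Y := (π.comp (S : Subgroup ↥X).subtype).codRestrict Y hmemY
  let ψ1 : ↥(S : Subgroup ↥X) →* ↥((SQ.subtype hSY : Sylow p ↥Y) : Subgroup ↥Y) :=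
    ψ0.codRestrict _ fun s => mem_subgroupOf.2 ⟨s, s.2, rfl⟩
  have hψ1i : Function.Injective ψ1 := by
    rw [injective_iff_map_eq_one]
    intro s hs
    have h1 : π (s : ↥X) = 1 := congrArg (fun w : ↥((SQ.subtype hSY : Sylow p ↥Y) : Subgroup ↥Y) => ((w : ↥Y) : ↥X ⧸ W)) hs
    have h2 : (s : ↥X) ∈ (⊥ : Subgroup ↥X) := by
      rw [← Components.inf_eq_bot_of_pGroup_coprime S.2 (hp.out.coprime_iff_not_dvd.2 hWp).symm]
      exact mem_inf.2 ⟨s.2, (QuotientGroup.eq_one_iff _).1 h1⟩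
    exact Subtype.ext h2
  have hψ1s : Function.Surjective ψ1 := by
    rintro ⟨⟨b, hbY⟩, hb⟩
    obtain ⟨s, hs, rfl⟩ := mem_subgroupOf.1 hb
    exact ⟨⟨s, hs⟩, Subtype.ext (Subtype.ext rfl)⟩
  let ψ : ↥P →* ↥((SQ.subtype hSY : Sylow p ↥Y) : Subgroup ↥Y) := ψ1.comp e.symm.toMonoidHom
  have hψs : Function.Surjective ψ := hψ1s.comp e.symm.surjective
  have hψker : ψ.ker = ⊥ := (MonoidHom.ker_eq_bot_iff ψ).2 (hψ1i.comp e.symm.injective)
  haveI := hK
  refine ⟨K.comap ψ, characteristic_comap ψ hψs (hψker ▸ inferInstance) K, ?_⟩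
  set Ks := ((K.comap ψ1).map (S : Subgroup ↥X).subtype) with hKs
  have hKsG : (K.comap ψ).map P.subtype = Ks.map X.subtype := by
    ext v
    constructor
    · rintro ⟨u, hu, rfl⟩
      refine ⟨(e.symm u : ↥X), ⟨e.symm u, hu, rfl⟩, ?_⟩
      exact congrArg Subtype.val (e.apply_symm_apply u)
    · rintro ⟨_, ⟨s, hs, rfl⟩, rfl⟩
      refine ⟨e s, ?_, rfl⟩
      change ψ1 (e.symm (e s)) ∈ K
      rwa [e.symm_apply_apply]
  have hmapK : Ks.map π =
      (K.map ((SQ.subtype hSY : Sylow p ↥Y) : Subgroup ↥Y).subtype).map Y.subtype := by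
    ext v
    constructor
    · rintro ⟨_, ⟨s, hs, rfl⟩, rfl⟩
      exact ⟨_, ⟨ψ1 s, hs, rfl⟩, rfl⟩
    · rintro ⟨_, ⟨k, hk, rfl⟩, rfl⟩
      obtain ⟨s, rfl⟩ := hψ1s k
      exact ⟨_, ⟨s, hk, rfl⟩, rfl⟩
  obtain ⟨g0, hg0⟩ := hπs (z : ↥X ⧸ W)
  have hgn : π g0 ∈ normalizer ((Ks.map π : Subgroup (↥X ⧸ W)) : Set (↥X ⧸ W)) := by
    rw [hg0, hmapK]
    exact le_normalizer_map Y.subtype ⟨z, hzn, rfl⟩
  obtain ⟨z1, hz1n, hz1π⟩ := exists_lift_normalizer W (S.2.to_le (map_subtype_le _)) hWp g0 hgn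
  obtain ⟨m, ⟨b, hb⟩, hm1⟩ := exists_qpart (q := q) π z1 ⟨a, by
    rw [hπ, hz1π, ← hπ, hg0]
    exact congrArg Subtype.val ha⟩
  refine ⟨((z1 ^ m : ↥X) : G), ⟨b, by rw [← SubmonoidClass.coe_pow, hb]; rfl⟩, ?_, fun hcn => hzc ?_⟩
  · rw [hKsG]
    exact le_normalizer_map X.subtype ⟨z1 ^ m, pow_mem hz1n m, rfl⟩
  · rw [mem_centralizer_iff]
    rintro _ ⟨k, hk, rfl⟩
    obtain ⟨s, rfl⟩ := hψ1s k
    rw [hKsG] at hcn
    have h1 := mem_centralizer_iff.1 hcn ((s : ↥X) : G) ⟨(s : ↥X), ⟨s, hk, rfl⟩, rfl⟩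
    have h2 : π ((s : ↥X) * z1 ^ m) = π (z1 ^ m * (s : ↥X)) := congrArg π (Subtype.ext h1)
    rw [map_mul, map_mul, hm1, hπ, hz1π, ← hπ, hg0] at h2
    exact Subtype.ext h2

theorem main {G : Type u} [Group G] [Finite G] (hpq : p ≠ q)
    (h23 : ¬ ((p = 2 ∧ q = 3) ∨ (p = 3 ∧ q = 2)))
    (hsol : ∀ H : Subgroup G, IsPGroup p ↥H →
      ∀ _ : ((centralizer (H : Set G)).subgroupOf (normalizer (H : Set G))).Normal,
        Cfsg.IsPSolvable p
          (↥(normalizer (H : Set G)) ⧸ (centralizer (H : Set G)).subgroupOf (normalizer (H : Set G))))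
    (H₀ : Subgroup G) (hH₀ : IsPGroup p ↥H₀) (hm₀ : Moves q H₀) (Gp : Sylow p G) :
    ∃ K : Subgroup G, K ≤ (Gp : Subgroup G) ∧ (Gp : Subgroup G) ≤ normalizer (K : Set G) ∧
      Moves q K := by
  set f : Subgroup G → ℕ := fun H => nVal p H * (Nat.card G + 1) + Nat.card ↥H with hf
  obtain ⟨H, ⟨hH, hm⟩, hmax⟩ := Set.exists_max_image {H : Subgroup G | IsPGroup p ↥H ∧ Moves q H} f
    (Set.toFinite _) ⟨H₀, hH₀, hm₀⟩
  haveI hCn := centralizer_subgroupOf_normal H
  set X := normalizer (H : Set G) with hX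
  obtain ⟨S⟩ : Nonempty (Sylow p ↥X) := inferInstance
  set P := (S : Subgroup ↥X).map X.subtype with hP
  have hPp : IsPGroup p ↥P := S.2.map _
  have hPcard : (Nat.card ↥P).factorization p = nVal p H := by
    rw [hP, card_map_of_injective X.subtype_injective, Sylow.card_eq_multiplicity S,
      hp.out.factorization_pow, Finsupp.single_eq_same]
    rfl
  have hbig : ∀ K : Subgroup G, IsPGroup p ↥K → Moves q K → nVal p K ≤ nVal p H := by
    intro K hK hKm
    by_contra hlt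
    have h1 := hmax K ⟨hK, hKm⟩
    have h2 : Nat.card ↥H ≤ Nat.card G := card_le_card_group H
    simp only [hf] at h1
    have h3 : (nVal p H + 1) * (Nat.card G + 1) ≤ nVal p K * (Nat.card G + 1) :=
      Nat.mul_le_mul_right _ (Nat.lt_of_not_le hlt)
    nlinarith
  have hsat : (S : Subgroup ↥X) ⊓ (centralizer (H : Set G)).subgroupOf X ≤ H.subgroupOf X := by
    obtain ⟨H1, hle, hH1, hm1, hN1, hT1⟩ := exists_enlarge H hH hm X hX S
    have h1 := hmax H1 ⟨hH1, hm1⟩
    simp only [hf] at h1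
    have h2 : nVal p H ≤ nVal p H1 := hPcard ▸ le_nVal hPp hN1
    have h3 := Nat.mul_le_mul_right (Nat.card G + 1) h2
    have h4 : H1 = H := (eq_of_le_of_card_ge hle (by omega)).symm
    rw [h4] at hT1
    intro t ht
    exact hT1 (mem_map_of_mem _ ht)
  obtain ⟨K, hKc, hKm⟩ : ∃ K : Subgroup ↥P, K.Characteristic ∧ Moves q (K.map P.subtype) :=
    exists_char_of_saturated hpq h23 H hH hm X hX (hsol H hH hCn) S hsat
  haveI := hKc
  have hKP : K.map P.subtype ≤ P := map_subtype_le _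
  have hNK : normalizer (P : Set G) ≤ normalizer ((K.map P.subtype : Subgroup G) : Set G) :=
    normalizer_le_normalizer_char P K
  obtain ⟨Q, hQ⟩ := hPp.exists_le_sylow
  have hPQ : P = (Q : Subgroup G) := by
    by_contra hne
    have hlt : P.subgroupOf (Q : Subgroup G) < ⊤ := lt_top_iff_ne_top.2 fun e =>
      hne (le_antisymm hQ (subgroupOf_eq_top.1 e))
    haveI : Group.IsNilpotent ↥(Q : Subgroup G) := Q.2.isNilpotent
    have h1 := normalizerCondition_of_isNilpotent _ hlt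
    set N := (normalizer (P.subgroupOf (Q : Subgroup G) : Set ↥(Q : Subgroup G))).map
      (Q : Subgroup G).subtype with hN
    have hNp : IsPGroup p ↥N := Q.2.to_le (map_subtype_le _)
    have hPN : P < N := by
      rw [← map_subgroupOf_eq_of_le hQ]
      exact (map_lt_map_iff_of_injective (Q : Subgroup G).subtype_injective).2 h1
    have hNle : N ≤ normalizer ((K.map P.subtype : Subgroup G) : Set G) := by
      refine le_trans ?_ hNK
      have h2 := le_normalizer_map (Q : Subgroup G).subtype (H := P.subgroupOf (Q : Subgroup G))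
      rwa [map_subgroupOf_eq_of_le hQ] at h2
    have h3 := (le_nVal hNp hNle).trans (hbig _ (hPp.to_le hKP) hKm)
    have h5 := le_nVal hNp hNle
    have hcardlt : Nat.card ↥P < Nat.card ↥N :=
      Nat.lt_of_not_le fun h => hPN.ne (eq_of_le_of_card_ge hPN.le h)
    obtain ⟨a, ha⟩ := IsPGroup.iff_card.1 hPp
    obtain ⟨b, hb⟩ := IsPGroup.iff_card.1 hNp
    rw [← hPcard, ha, hb, hp.out.factorization_pow, hp.out.factorization_pow,
      Finsupp.single_eq_same, Finsupp.single_eq_same] at h3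
    rw [ha, hb] at hcardlt
    have := (Nat.pow_lt_pow_iff_right hp.out.one_lt).1 hcardlt
    omega
  obtain ⟨g, hg⟩ := MulAction.exists_smul_eq G Q Gp
  have hGp : (Gp : Subgroup G) = P.map (MulAut.conj g).toMonoidHom := by
    rw [← hg, Sylow.coe_subgroup_smul, hPQ]; rfl
  refine ⟨(K.map P.subtype).map (MulAut.conj g).toMonoidHom, ?_, ?_, hKm.conj g⟩
  · rw [hGp]; exact map_mono hKP
  · rw [hGp]
    exact (map_mono (le_normalizer.trans hNK)).trans (le_normalizer_map _)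

end Cfsg.Agent.Lib.Automizer
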